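/-
Sections and the linearisation of a pullback along an involution over the base.
-/
import Groth.Agent.TMul.Frame
import Groth.Agent.ProjMor.PullSec
import Groth.Agent.QC.Sections

set_option autoImplicit false
set_option linter.style.haveILetI false
set_option linter.unusedSectionVars false
set_option backward.isDefEq.respectTransparency false
set_option backward.isDefEq.respectTransparency.types false
set_option maxHeartbeats 1000000

universe u

open CategoryTheory CategoryTheory.Limits AlgebraicGeometry TopologicalSpace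
open Groth.Agent.QC (res resO app_res res_res res_self res_smul resO_resO resO_self section_eq_of_locally)

noncomputable section

namespace Groth.Agent.DCDesc

variable {X Y Z : Scheme.{u}}

/-- `η` of a composite. -/
theorem eta_comp (f : X ⟶ Y) (g : Y ⟶ Z) (M : Z.Modules) (U : Z.Opens) (w : Γ(M, U)) :
    ((Scheme.Modules.pullbackComp f g).inv.app M).app (f ⁻¹ᵁ (g ⁻¹ᵁ U)) (ProjMor.eta (f ≫ g) M U w) =
      ProjMor.eta f ((Scheme.Modules.pullback g).obj M) (g ⁻¹ᵁ U) (ProjMor.eta g M U w) := by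
  have h := unit_conjugateEquiv
    ((Scheme.Modules.pullbackPushforwardAdjunction g).comp (Scheme.Modules.pullbackPushforwardAdjunction f))
    (Scheme.Modules.pullbackPushforwardAdjunction (f ≫ g)) (Scheme.Modules.pullbackComp f g).inv M
  rw [Scheme.Modules.conjugateEquiv_pullbackComp_inv] at h
  exact (congr($(h).app U w)).symm

/-- `η` along equal morphisms. -/
theorem eta_congr {g h : X ⟶ Y} (e : g = h) (M : Y.Modules) (U : Y.Opens) (w : Γ(M, U))
    (hle : g ⁻¹ᵁ U ≤ h ⁻¹ᵁ U) :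
    ((Scheme.Modules.pullbackCongr e).hom.app M).app (g ⁻¹ᵁ U) (ProjMor.eta g M U w) =
      res _ hle (ProjMor.eta h M U w) := by
  subst e
  rw [res_self]
  rfl

/-- A morphism out of a quasi-coherent module vanishing on the members of an affine cover vanishes. -/
theorem hom_eq_zero_of_cover {M N : X.Modules} (hM : Coh.IsQCoh M) (φ : M ⟶ N)
    (h : ∀ x : X, ∃ U : X.Opens, IsAffineOpen U ∧ x ∈ U ∧ ∀ s : Γ(M, U), φ.app U s = 0) : φ = 0 := by
  refine Scheme.Modules.hom_ext _ _ fun W => ?_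
  ext s
  refine section_eq_of_locally fun x hx => ?_
  obtain ⟨U, hU, hxU, hz⟩ := h x
  obtain ⟨f, hfle, hxf⟩ := hU.exists_basicOpen_le ⟨x, hx⟩ hxU
  refine ⟨X.basicOpen f, hfle, hxf, ?_⟩
  obtain ⟨n, t, ht⟩ := (Groth.Agent.QC.isQCoh_iff_isLoc.1 hM ⟨U, hU⟩).exists_extend f (res M hfle s)
  have hu : IsUnit ((resO X (X.basicOpen_le f) f) ^ n) :=
    (RingedSpace.isUnit_res_basicOpen X.toRingedSpace f).pow n
  have h2 : res N hfle (φ.app W s) = 0 := by
    refine hu.smul_eq_zero.1 ?_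
    rw [app_res, ← Scheme.Modules.Hom.app_smul, ← ht, ← app_res, hz t, map_zero]
  rw [h2]
  exact (map_zero _).symm

variable (π : X ⟶ Y) (σ : X ⟶ X) (hσπ : σ ≫ π = π)

include hσπ in
theorem preimage_eq (U : Y.Opens) : σ ⁻¹ᵁ (π ⁻¹ᵁ U) = π ⁻¹ᵁ U := by
  rw [← Scheme.Hom.comp_preimage, hσπ]

/-- `σ^#` on the sections over the inverse image of an open. -/
def sharp (U : Y.Opens) : Γ(X, π ⁻¹ᵁ U) →+* Γ(X, π ⁻¹ᵁ U) :=
  (σ.appLE (π ⁻¹ᵁ U) (π ⁻¹ᵁ U) (preimage_eq π σ hσπ U).ge).hom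

theorem sharp_app (U : Y.Opens) (a : Γ(Y, U)) : sharp π σ hσπ U (π.app U a) = π.app U a := by
  show (π.app U ≫ σ.appLE (π ⁻¹ᵁ U) (π ⁻¹ᵁ U) _) a = π.app U a
  rw [← Scheme.Hom.appLE_eq_app, Scheme.Hom.appLE_comp_appLE]
  simp only [hσπ]

theorem sharp_sharp (hσ : σ ≫ σ = 𝟙 X) (U : Y.Opens) (b : Γ(X, π ⁻¹ᵁ U)) :
    sharp π σ hσπ U (sharp π σ hσπ U b) = b := by
  show (σ.appLE (π ⁻¹ᵁ U) (π ⁻¹ᵁ U) _ ≫ σ.appLE (π ⁻¹ᵁ U) (π ⁻¹ᵁ U) _) b = b
  rw [Scheme.Hom.appLE_comp_appLE]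
  simp only [hσ]
  simp [Scheme.Hom.appLE]
  exact congr($(X.presheaf.map_id _).hom b)

variable (M : X.Modules) (A : M ⟶ (Scheme.Modules.pushforward σ).obj M)

/-- The semilinear map on sections induced by `M ⟶ σ_* M`. -/
def twist (U : Y.Opens) : Γ(M, π ⁻¹ᵁ U) →+ Γ(M, π ⁻¹ᵁ U) :=
  AddMonoidHom.mk' (fun x => res M (preimage_eq π σ hσπ U).ge
    (show Γ(M, σ ⁻¹ᵁ (π ⁻¹ᵁ U)) from A.app (π ⁻¹ᵁ U) x)) fun x y => by
      simp only [map_add]
      try exact map_add _ _ _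

theorem twist_smul (U : Y.Opens) (b : Γ(X, π ⁻¹ᵁ U)) (x : Γ(M, π ⁻¹ᵁ U)) :
    twist π σ hσπ M A U (b • x) = sharp π σ hσπ U b • twist π σ hσπ M A U x := by
  show res M (preimage_eq π σ hσπ U).ge _ = _
  rw [Scheme.Modules.Hom.app_smul]
  exact res_smul M _ (σ.app (π ⁻¹ᵁ U) b) _

theorem twist_comm {N : X.Modules} (B : N ⟶ (Scheme.Modules.pushforward σ).obj N) (i : N ⟶ M)
    (h : B ≫ (Scheme.Modules.pushforward σ).map i = i ≫ A) (U : Y.Opens) (x : Γ(N, π ⁻¹ᵁ U)) :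
    twist π σ hσπ M A U (i.app _ x) = i.app _ (twist π σ hσπ N B U x) := by
  show res M _ (show Γ(M, σ ⁻¹ᵁ (π ⁻¹ᵁ U)) from (i ≫ A).app (π ⁻¹ᵁ U) x) = _
  rw [← h]
  exact app_res i (preimage_eq π σ hσπ U).ge (B.app (π ⁻¹ᵁ U) x)

/-- The canonical linearisation of a pullback. -/
def lin (E : Y.Modules) :
    (Scheme.Modules.pullback σ).obj ((Scheme.Modules.pullback π).obj E) ⟶ (Scheme.Modules.pullback π).obj E :=
  (Scheme.Modules.pullbackComp σ π).hom.app E ≫ (Scheme.Modules.pullbackCongr hσπ).hom.app E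

theorem twist_eta (E : Y.Modules) (U : Y.Opens) (w : Γ(E, U)) :
    twist π σ hσπ _ ((Scheme.Modules.pullbackPushforwardAdjunction σ).homEquiv _ _ (lin π σ hσπ E)) U
      (ProjMor.eta π E U w) = ProjMor.eta π E U w := by
  rw [Adjunction.homEquiv_unit]
  show res _ _ ((lin π σ hσπ E).app (σ ⁻¹ᵁ (π ⁻¹ᵁ U))
    (ProjMor.eta σ _ (π ⁻¹ᵁ U) (ProjMor.eta π E U w))) = _
  rw [← eta_comp]
  show res _ _ (((Scheme.Modules.pullbackCongr hσπ).hom.app E).app _
    ((((Scheme.Modules.pullbackComp σ π).inv.app E ≫ (Scheme.Modules.pullbackComp σ π).hom.app E)).app _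
      (ProjMor.eta (σ ≫ π) E U w))) = _
  rw [Iso.inv_hom_id_app]
  show res _ _ (((Scheme.Modules.pullbackCongr hσπ).hom.app E).app ((σ ≫ π) ⁻¹ᵁ U)
    (ProjMor.eta (σ ≫ π) E U w)) = _
  rw [eta_congr hσπ E U w (by rw [hσπ])]
  exact (res_res _ _ _ _).trans (res_self _ _ _)

theorem lin_natural {E E' : Y.Modules} (f : E ⟶ E') :
    (Scheme.Modules.pullback σ).map ((Scheme.Modules.pullback π).map f) ≫ lin π σ hσπ E' =
      lin π σ hσπ E ≫ (Scheme.Modules.pullback π).map f := by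
  simp only [lin, Category.assoc]
  rw [← (Scheme.Modules.pullbackCongr hσπ).hom.naturality f, ← Category.assoc, ← Category.assoc]
  congr 1
  exact (Scheme.Modules.pullbackComp σ π).hom.naturality f

end Groth.Agent.DCDesc

end
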