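/-
Invariant subbundles of a pullback along a double cover descend.
-/
import Groth.Agent.DCDesc.Basic
import Groth.Agent.DCOmega.Main
import Groth.Agent.W7Slope.Hom
import Groth.Agent.K0Hom.PbF
import Groth.Agent.ResDesc.Main

set_option autoImplicit false
set_option linter.style.haveILetI false
set_option linter.unusedSectionVars false
set_option backward.isDefEq.respectTransparency false
set_option backward.isDefEq.respectTransparency.types false
set_option maxHeartbeats 1000000

universe u

open CategoryTheory CategoryTheory.Limits AlgebraicGeometry TopologicalSpace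
open Groth.Agent.DCOmega
open Groth.Agent.QC (res resO app_res res_res res_self res_smul resO_resO resO_self section_eq_of_locally)

noncomputable section

namespace Groth.Agent.DCDesc

/-- An element killing a section of a bundle on an integral scheme is zero or the section is. -/
theorem smul_eq_zero_of_frames {X : Scheme.{u}} [IsIntegral X] {M : X.Modules} {V : X.Opens} {n : ℕ}
    {e : Fin n → Γ(M, V)} (he : TMul.IsFrame e) {d : Γ(X, V)} (hd : d ≠ 0) {m : Γ(M, V)} (h : d • m = 0) :
    m = 0 := by
  rcases Set.eq_empty_or_nonempty (V : Set X) with hV | hV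
  · exact section_eq_of_locally fun x hx => absurd (hV ▸ hx) (Set.notMem_empty x)
  obtain ⟨x, hx⟩ := hV
  haveI : Nonempty V := ⟨⟨x, hx⟩⟩
  obtain ⟨c, rfl⟩ := he.comb_surjective le_rfl m
  have h' : ∑ i, (d * c i) • res M le_rfl (e i) = ∑ i, (0 : Γ(X, V)) • res M le_rfl (e i) := by
    simp only [zero_smul, Finset.sum_const_zero, mul_smul, ← Finset.smul_sum]
    exact h
  have hc := he.comb_injective le_rfl h'
  refine Finset.sum_eq_zero fun i _ => ?_
  rw [(mul_eq_zero.1 (congrFun hc i)).resolve_left hd, zero_smul]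

variable (k : Type u) [Field k] [IsAlgClosed k] {X Y : Scheme.{u}}
  [X.Over (Spec (CommRingCat.of k))] [Y.Over (Spec (CommRingCat.of k))]
  [IsIntegral X] [IsProper (X ↘ Spec (CommRingCat.of k))] [Smooth (X ↘ Spec (CommRingCat.of k))]
  [IsIntegral Y] [IsProper (Y ↘ Spec (CommRingCat.of k))] [Smooth (Y ↘ Spec (CommRingCat.of k))]
  (π : X ⟶ Y) [IsFinite π] [Flat π] (σ : X ⟶ X) (hσπ : σ ≫ π = π)

/-- If `σ^#` fixes the sections over a nonempty affine, `σ` is the identity. -/
theorem eq_id_of_sharp [X.IsSeparated] {U : Y.Opens} (hU : IsAffineOpen U) (hne : (π ⁻¹ᵁ U : Set X).Nonempty)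
    (h : ∀ b, sharp π σ hσπ U b = b) : σ = 𝟙 X := by
  let V := π ⁻¹ᵁ U
  haveI : IsAffine V := hU.preimage π
  have hVV : V ≤ σ ⁻¹ᵁ V := (preimage_eq π σ hσπ U).ge
  have happ : σ.appLE V V hVV = 𝟙 _ := by
    ext b
    exact h b
  have hres : σ.resLE V V hVV = 𝟙 _ := by
    haveI : IsIso V.toSpecΓ := (hU.preimage π).isoSpec_hom ▸ inferInstance
    rw [← cancel_mono V.toSpecΓ, ← Scheme.Opens.toSpecΓ_SpecMap_appLE, happ, Spec.map_id, Category.comp_id,
      Category.id_comp]
  haveI : IsDominant V.ι := by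
    refine ⟨?_⟩
    show Dense (Set.range V.ι)
    rw [Scheme.Opens.range_ι]
    exact V.2.dense hne
  refine ext_of_isDominant V.ι ?_
  rw [← Scheme.Hom.resLE_comp_ι σ hVV, hres, Category.id_comp, Category.comp_id]

variable (hπ : π ≫ (Y ↘ Spec (CommRingCat.of k)) = X ↘ Spec (CommRingCat.of k))

include hπ in
/-- Invariant subbundles descend. -/
theorem descends (h2 : (2 : k) ≠ 0) (hdimY : topologicalKrullDim Y = 1)
    (hrk : ∀ y : Y, π.finrank y = 2)
    (hσ : σ ≫ σ = 𝟙 X)
    (hσ1 : σ ≠ 𝟙 X) {r : ℕ} {E : Y.Modules} (hE : FlatMod.IsFinLocFreeOfRank r E)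
    {F : X.Modules} (i : F ⟶ (Scheme.Modules.pullback π).obj E) [Mono i]
    (hC : FlatMod.IsFinLocFree (cokernel i))
    (j : (Scheme.Modules.pullback σ).obj F ⟶ F)
    (hj : j ≫ i = (Scheme.Modules.pullback σ).map i ≫ lin π σ hσπ E) :
    ∃ (F' : Y.Modules) (i' : F' ⟶ E) (e : (Scheme.Modules.pullback π).obj F' ≅ F),
        Mono i' ∧ e.hom ≫ i = (Scheme.Modules.pullback π).map i' := by
  haveI := CurveRR.isNoetherian_of_proper k X
  haveI := CurveRR.isNoetherian_of_proper k Y
  haveI : Nonempty X := inferInstance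
  haveI : LocallyOfFinitePresentation π := LocallyOfFinitePresentation.iff_locallyOfFiniteType.mpr inferInstance
  haveI : X.IsSeparated := ⟨by
    rw [← terminal.comp_from (X ↘ Spec (CommRingCat.of k))]; infer_instance⟩
  have hY := W7Slope.regCurve_of_smooth (k := k) hdimY
  obtain ⟨D₀, ι, T, τ, hT, hι, hmono, hD, hker, -, -, -⟩ :=
    DCOmega.exists_split k π hπ hdimY.le hY.reg h2 hrk
  haveI := hmono
  let adjπ := Scheme.Modules.pullbackPushforwardAdjunction π
  let adjσ := Scheme.Modules.pullbackPushforwardAdjunction σ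
  let P := Scheme.Modules.pullback π
  -- the descended subsheaf
  have hPC := ResDesc.isFinLocFree_push (f := π) hC
  have hPCr := W7Slope.rank_of_isFinLocFree (LocFree.isQCoh_of_isFinLocFree hPC) hPC
  let φ : E ⟶ (Scheme.Modules.pushforward π).obj (cokernel i) := adjπ.homEquiv _ _ (cokernel.π i)
  obtain ⟨Q, p, iQ, hp, hiQ, hfac, hQ, -, -, -, -, -⟩ := W7Slope.exists_image k hY hE hPCr φ
  haveI := hp
  haveI := hiQ
  let S := ShortComplex.mk (kernel.ι p) p (kernel.condition p)
  have hS : S.ShortExact :=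
    { exact := ShortComplex.exact_of_f_is_kernel _ (kernelIsKernel p)
      mono_f := inferInstanceAs (Mono (kernel.ι p))
      epi_g := hp }
  have hPS := K0Hom.shortExact_pullback_flat π hS
  haveI : Mono (P.map (kernel.ι p)) := hPS.mono_f
  have hfz : P.map (kernel.ι p) ≫ cokernel.π i = 0 := by
    refine (adjπ.homEquiv _ _).injective ?_
    rw [adjπ.homEquiv_naturality_left]
    show kernel.ι p ≫ φ = _
    rw [← hfac, kernel.condition_assoc, zero_comp]
    rw [adjπ.homEquiv_unit, Functor.map_zero, comp_zero]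
  obtain ⟨g, hg⟩ : ∃ g : P.obj (kernel p) ⟶ F, g ≫ i = P.map (kernel.ι p) :=
    ⟨Abelian.monoLift i _ hfz, Abelian.monoLift_comp i _ hfz⟩
  -- the composite to the pullback of the quotient
  have hzero : i ≫ P.map p = 0 := by
    have hF : Coh.IsCoh F := CohFinite.isCoh_of_iso
      (IsLimit.conePointUniqueUpToIso (kernelIsKernel (cokernel.π i))
        (Abelian.monoIsKernelOfCokernel _ (colimit.isColimit _)))
      (Groth.Agent.QC.isCoh_kernel (CurveRR.isCoh_of_rank (CurveRR.Multi.isFinLocFreeOfRank_pullback π hE))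
        (LocFree.isQCoh_of_isFinLocFree hC) (cokernel.π i))
    refine hom_eq_zero_of_cover hF.1 _ fun x => ?_
    obtain ⟨U₁, e, hx₁, he⟩ := CurveRR.exists_frame hE (π x)
    obtain ⟨U₂, f, hx₂, hf⟩ := CurveRR.exists_frame hQ (π x)
    obtain ⟨U₃, g₀, hx₃, hg₀⟩ := TMul.exists_isGen hD (π x)
    obtain ⟨U, hU, hxU, hle⟩ := exists_isAffineOpen_mem_and_subset (U := U₁ ⊓ U₂ ⊓ U₃) (x := π x)
      ⟨⟨hx₁, hx₂⟩, hx₃⟩
    have h₁ : U ≤ U₁ := fun y hy => (hle hy).1.1
    have h₂ : U ≤ U₂ := fun y hy => (hle hy).1.2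
    have h₃ : U ≤ U₃ := fun y hy => (hle hy).2
    refine ⟨π ⁻¹ᵁ U, hU.preimage π, hxU, ?_⟩
    let V := π ⁻¹ᵁ U
    haveI : Nonempty V := ⟨⟨x, hxU⟩⟩
    let sh := sharp π σ hσπ U
    have heV := (TMul.IsFrame.pullback π he)
    have hfV := (TMul.IsFrame.pullback π hf)
    -- fixed functions come from the base
    let b₀ : Γ(X, V) := ι.app U (res D₀ h₃ g₀)
    have hfix : ∀ b : Γ(X, V), sh b = b → ∃ a : Γ(Y, U), π.app U a = b := by
      intro b hb
      let a₀ : Γ(Y, U) := T.app U (show Γ((Scheme.Modules.pushforward π).obj (Coh.structureModule X), U) from b)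
      have hTb : T.app U (show Γ((Scheme.Modules.pushforward π).obj (Coh.structureModule X), U) from b - π.app U a₀) = 0 := by
        rw [show (show Γ((Scheme.Modules.pushforward π).obj (Coh.structureModule X), U) from b - π.app U a₀) =
          (show Γ((Scheme.Modules.pushforward π).obj (Coh.structureModule X), U) from b) - (ClSub.unitToPush π).app U a₀ from rfl, map_sub]
        have h : T.app U ((ClSub.unitToPush π).app U a₀) = a₀ := by
          show (ClSub.unitToPush π ≫ T).app U a₀ = a₀
          rw [hT]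
          rfl
        rw [h]
        exact sub_self a₀
      obtain ⟨δ, hδ⟩ := hker U _ hTb
      obtain ⟨c, rfl⟩ := ((hg₀.res h₃) U le_rfl).2 δ
      change ι.app U (c • res D₀ le_rfl (res D₀ h₃ g₀)) = _ at hδ
      rw [res_self, Scheme.Modules.Hom.app_smul] at hδ
      change π.app U c * b₀ = b - π.app U a₀ at hδ
      have hc : π.app U c * (sh b₀ - b₀) = 0 := by
        have h := congrArg sh hδ
        rw [map_mul, map_sub, sharp_app, sharp_app, hb, ← hδ] at h
        rw [mul_sub, h, sub_self]
      rcases mul_eq_zero.1 hc with h | h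
      · exact ⟨a₀, (sub_eq_zero.1 (by rw [← hδ, h, zero_mul])).symm⟩
      · exfalso
        refine hσ1 (eq_id_of_sharp π σ hσπ hU ⟨x, hxU⟩ fun b' => ?_)
        let a₁ : Γ(Y, U) := T.app U (show Γ((Scheme.Modules.pushforward π).obj (Coh.structureModule X), U) from b')
        have hTb' : T.app U (show Γ((Scheme.Modules.pushforward π).obj (Coh.structureModule X), U) from b' - π.app U a₁) = 0 := by
          rw [show (show Γ((Scheme.Modules.pushforward π).obj (Coh.structureModule X), U) from b' - π.app U a₁) =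
            (show Γ((Scheme.Modules.pushforward π).obj (Coh.structureModule X), U) from b') - (ClSub.unitToPush π).app U a₁ from rfl, map_sub]
          have h : T.app U ((ClSub.unitToPush π).app U a₁) = a₁ := by
            show (ClSub.unitToPush π ≫ T).app U a₁ = a₁
            rw [hT]
            rfl
          rw [h]
          exact sub_self a₁
        obtain ⟨δ', hδ'⟩ := hker U _ hTb'
        obtain ⟨c', rfl⟩ := ((hg₀.res h₃) U le_rfl).2 δ'
        change ι.app U (c' • res D₀ le_rfl (res D₀ h₃ g₀)) = _ at hδ'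
        rw [res_self, Scheme.Modules.Hom.app_smul] at hδ'
        change π.app U c' * b₀ = b' - π.app U a₁ at hδ'
        rw [show b' = π.app U c' * b₀ + π.app U a₁ by rw [hδ', sub_add_cancel], map_add, map_mul, sharp_app,
          sharp_app, sub_eq_zero.1 h]
    -- a nonzero anti-invariant function
    let d : Γ(X, V) := b₀ - sh b₀
    have hd : sh d = -d := by
      rw [map_sub, sharp_sharp π σ hσπ hσ, neg_sub]
    have hd0 : d ≠ 0 := by
      intro h
      obtain ⟨a, ha⟩ := hfix b₀ (sub_eq_zero.1 h).symm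
      refine hσ1 (eq_id_of_sharp π σ hσπ hU ⟨x, hxU⟩ fun b' => ?_)
      let a₁ : Γ(Y, U) := T.app U (show Γ((Scheme.Modules.pushforward π).obj (Coh.structureModule X), U) from b')
      have hTb' : T.app U (show Γ((Scheme.Modules.pushforward π).obj (Coh.structureModule X), U) from b' - π.app U a₁) = 0 := by
        rw [show (show Γ((Scheme.Modules.pushforward π).obj (Coh.structureModule X), U) from b' - π.app U a₁) =
          (show Γ((Scheme.Modules.pushforward π).obj (Coh.structureModule X), U) from b') - (ClSub.unitToPush π).app U a₁ from rfl, map_sub]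
        have h : T.app U ((ClSub.unitToPush π).app U a₁) = a₁ := by
          show (ClSub.unitToPush π ≫ T).app U a₁ = a₁
          rw [hT]
          rfl
        rw [h]
        exact sub_self a₁
      obtain ⟨δ', hδ'⟩ := hker U _ hTb'
      obtain ⟨c', rfl⟩ := ((hg₀.res h₃) U le_rfl).2 δ'
      change ι.app U (c' • res D₀ le_rfl (res D₀ h₃ g₀)) = _ at hδ'
      rw [res_self, Scheme.Modules.Hom.app_smul] at hδ'
      change π.app U c' * b₀ = b' - π.app U a₁ at hδ'
      rw [show b' = π.app U c' * b₀ + π.app U a₁ by rw [hδ', sub_add_cancel], map_add, map_mul, sharp_app,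
        sharp_app, ← ha, sharp_app]
    -- symmetrised sections
    let A := adjσ.homEquiv _ _ (lin π σ hσπ E)
    let tw := twist π σ hσπ _ A U
    let twF := twist π σ hσπ F (adjσ.homEquiv _ _ j) U
    have htw : ∀ z : Γ(F, V), tw (i.app V z) = i.app V (twF z) :=
      twist_comm π σ hσπ _ A (adjσ.homEquiv _ _ j) i (by
        rw [← adjσ.homEquiv_naturality_right, hj, adjσ.homEquiv_naturality_left]) U
    let Pp : Γ(P.obj E, V) →+ Γ(P.obj Q, V) := ((P.map p).app V).hom
    have hsym : ∀ z : Γ(F, V), Pp (i.app V z) + Pp (tw (i.app V z)) = 0 := by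
      intro z
      obtain ⟨c, hc⟩ := heV.comb_surjective (π.preimage_mono h₁) (i.app V z)
      have hw : ∀ l, res (P.obj E) (π.preimage_mono h₁) (ProjMor.eta π E U₁ (e l)) =
          ProjMor.eta π E U (res E h₁ (e l)) := fun l => ProjMor.eta_res π E h₁ (e l)
      have hc' : i.app V z = ∑ l, c l • ProjMor.eta π E U (res E h₁ (e l)) := by
        rw [← hc]
        exact Finset.sum_congr rfl fun l _ => congrArg (c l • ·) (hw l)
      have ha : ∀ l, ∃ a : Γ(Y, U), π.app U a = c l + sh (c l) := fun l =>
        hfix _ (by rw [map_add, sharp_sharp π σ hσπ hσ, add_comm])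
      choose a ha using ha
      let e₀ : Γ(E, U) := ∑ l, a l • res E h₁ (e l)
      have hy : i.app V z + tw (i.app V z) = ProjMor.eta π E U e₀ := by
        rw [hc', map_sum, ← Finset.sum_add_distrib, map_sum]
        refine Finset.sum_congr rfl fun l _ => ?_
        rw [twist_smul, twist_eta, ProjMor.eta_smul, ha, add_smul]
      have hφ : φ.app U e₀ = 0 := by
        show (adjπ.homEquiv _ _ (cokernel.π i)).app U e₀ = 0
        rw [adjπ.homEquiv_unit]
        show (cokernel.π i).app V (ProjMor.eta π E U e₀) = 0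
        rw [← hy, htw, ← map_add]
        show (i ≫ cokernel.π i).app V (z + twF z) = 0
        rw [cokernel.condition]
        rfl
      have hpe : p.app U e₀ = 0 := by
        refine Groth.Agent.QC.app_injective_of_mono iQ U ?_
        rw [map_zero]
        show (p ≫ iQ).app U e₀ = 0
        rw [hfac]
        exact hφ
      rw [← map_add, hy]
      have hn := congr($(adjπ.unit.naturality p).app U e₀)
      refine Eq.trans (show Pp (ProjMor.eta π E U e₀) = ProjMor.eta π Q U (p.app U e₀) from hn.symm) ?_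
      rw [hpe, map_zero]
    intro z
    show Pp (i.app V z) = 0
    have h₁' := hsym z
    have h₂' := hsym (d • z)
    have e₁ : i.app V (d • z) = d • i.app V z := Scheme.Modules.Hom.app_smul _ _ _
    have e₂ : tw (i.app V (d • z)) = (-d) • tw (i.app V z) := by rw [e₁, twist_smul]; exact congrArg (· • _) hd
    have e₃ : ∀ (c : Γ(X, V)) (w : Γ(P.obj E, V)), Pp (c • w) = c • Pp w := fun c w =>
      Scheme.Modules.Hom.app_smul _ _ _
    rw [e₂, e₁, e₃, e₃, neg_smul, ← sub_eq_add_neg, ← smul_sub, eq_neg_of_add_eq_zero_right h₁', sub_neg_eq_add,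
      ← two_smul Γ(X, V), smul_smul] at h₂'
    have hfV' : TMul.IsFrame (fun l => res (P.obj Q) (π.preimage_mono h₂) (ProjMor.eta π Q U₂ (f l))) :=
      fun y hy => by
        simp only [WeakAssLib.mgerm_res]
        exact hfV y (π.preimage_mono h₂ hy)
    exact smul_eq_zero_of_frames hfV' (mul_ne_zero hd0 (DCOmega.isUnit_two k h2 V).ne_zero) h₂'
  -- invert
  obtain ⟨l, hl⟩ : ∃ l : F ⟶ P.obj (kernel p), l ≫ P.map (kernel.ι p) = i :=
    ⟨hPS.fIsKernel.lift (KernelFork.ofι i hzero), hPS.fIsKernel.fac _ WalkingParallelPair.zero⟩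
  let eI : P.obj (kernel p) ≅ F :=
    { hom := g
      inv := l
      hom_inv_id := (cancel_mono (P.map (kernel.ι p))).1 (by rw [Category.assoc, hl, hg, Category.id_comp])
      inv_hom_id := (cancel_mono i).1 (by rw [Category.assoc, hg, hl, Category.id_comp]) }
  exact ⟨kernel p, kernel.ι p, eI, inferInstance, hg⟩

end Groth.Agent.DCDesc

end
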